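import Mathlib.GroupTheory.Sylow
import Mathlib.Algebra.Group.End
import Cfsg.Prelude.Def_KGroupFacts

/-!
# A rigidity criterion for the triviality of the outer automorphism group

`G = ⟨s, t⟩` with `s` of prime order `p` (Sylow `p`-subgroups of order `p`, whose normaliser is transitive
on their generators) and `t` of prime order `q`.  If a set `L` contains every element of order `q` and each
of its members is a conjugate of `t` under the centraliser of `s` or fails some relation that `(s, t)`
satisfies, then every automorphism is inner.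
-/

set_option autoImplicit false

namespace Cfsg.Agent.Lib.OutTrivial

universe u

variable {G : Type u} [Group G]

/-- The value of a word in two elements (`false`: the first, `true`: the second). -/
def wordVal (a b : G) : List Bool → G
  | [] => 1
  | i :: is => (bif i then b else a) * wordVal a b is

theorem map_wordVal {H : Type*} [Group H] (f : G →* H) (a b : G) :
    ∀ w, f (wordVal a b w) = wordVal (f a) (f b) w
  | [] => map_one f
  | i :: is => by cases i <;> simp [wordVal, map_wordVal f a b is]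

/-- An element of order a power of `p` is conjugate into a subgroup of index prime to `p`. -/
theorem exists_conj_mem [Finite G] {p : ℕ} [Fact p.Prime] (P : Subgroup G) (hP : ¬ p ∣ P.index) {x : G}
    (hx : orderOf x = p) : ∃ g : G, g⁻¹ * x * g ∈ P := by
  have hz : IsPGroup p (Subgroup.zpowers x) :=
    IsPGroup.of_card (n := 1) (by rw [Nat.card_zpowers, hx, pow_one])
  obtain ⟨c, hc⟩ := hz.nonempty_fixed_point_of_prime_not_dvd_card (G ⧸ P)
    (by rw [← Subgroup.index_eq_card]; exact hP)
  obtain ⟨g, rfl⟩ := QuotientGroup.mk_surjective c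
  refine ⟨g, ?_⟩
  have h : x • (g : G ⧸ P) = g := hc ⟨x, Subgroup.mem_zpowers x⟩
  rw [MulAction.Quotient.smul_coe, smul_eq_mul, QuotientGroup.eq] at h
  have := P.inv_mem h
  simpa [mul_assoc] using this

/-- A set closed under conjugation by generators of a finite group is closed under conjugation. -/
theorem conj_mem_of_gens [Finite G] {S : Set G} (hS : Subgroup.closure S = ⊤) (L : Set G)
    (hL : ∀ s ∈ S, ∀ x ∈ L, s * x * s⁻¹ ∈ L) (g : G) {x : G} (hx : x ∈ L) : g * x * g⁻¹ ∈ L := by
  have hg : g ∈ (Subgroup.closure S).toSubmonoid := by rw [hS]; trivial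
  rw [Subgroup.closure_toSubmonoid_of_finite] at hg
  induction hg using Submonoid.closure_induction_left generalizing x with
  | one => simpa using hx
  | mul_left a ha b _ ih =>
    have := hL a ha _ (ih hx)
    simpa [mul_assoc] using this

/-- An element of order `p` is conjugate to `s`. -/
theorem isConj_of_order [Finite G] {p : ℕ} [hp : Fact p.Prime] {s : G} (hs : orderOf s = p)
    (hp2 : ¬ p ^ 2 ∣ Nat.card G) (n : G) (k : ℕ) (hn : n * s * n⁻¹ = s ^ k)
    (hk : ∀ j < p, j ≠ 0 → ∃ i < p, k ^ i % p = j) {x : G} (hx : orderOf x = p) :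
    ∃ g : G, g * s * g⁻¹ = x := by
  have hidx : ¬ p ∣ (Subgroup.zpowers s).index := fun h => hp2 (by
    rw [← (Subgroup.zpowers s).card_mul_index, Nat.card_zpowers, hs, pow_two]
    exact Nat.mul_dvd_mul_left p h)
  obtain ⟨g, hg⟩ := exists_conj_mem _ hidx hx
  obtain ⟨j, hj⟩ := (Submonoid.mem_powers_iff _ _).1 (mem_powers_iff_mem_zpowers.2 hg)
  have hj' : s ^ (j % p) = g⁻¹ * x * g := by
    rw [← hs, pow_mod_orderOf]; exact hj
  have hjp : j % p ≠ 0 := by
    intro h0
    rw [h0, pow_zero] at hj'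
    have : x = 1 := by
      calc x = g * (g⁻¹ * x * g) * g⁻¹ := by group
        _ = 1 := by rw [← hj']; group
    rw [this, orderOf_one] at hx
    exact hp.out.ne_one hx.symm
  obtain ⟨i, -, hi⟩ := hk (j % p) (Nat.mod_lt _ hp.out.pos) hjp
  have hpow : ∀ i : ℕ, n ^ i * s * (n ^ i)⁻¹ = s ^ (k ^ i) := by
    intro i
    induction i with
    | zero => simp
    | succ i ih =>
      calc n ^ (i + 1) * s * (n ^ (i + 1))⁻¹
          = n * (n ^ i * s * (n ^ i)⁻¹) * n⁻¹ := by rw [pow_succ']; group
        _ = (n * s * n⁻¹) ^ (k ^ i) := by rw [ih, conj_pow]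
        _ = s ^ (k ^ (i + 1)) := by rw [hn, ← pow_mul, pow_succ']
  refine ⟨g * n ^ i, ?_⟩
  calc g * n ^ i * s * (g * n ^ i)⁻¹ = g * (n ^ i * s * (n ^ i)⁻¹) * g⁻¹ := by group
    _ = g * s ^ (j % p) * g⁻¹ := by rw [hpow, ← pow_mod_orderOf, hs, hi]
    _ = x := by rw [hj']; group

/-- The rigidity criterion. -/
theorem card_out_eq_one [Finite G] {p q : ℕ} [Fact p.Prime] [Fact q.Prime] {s t n : G} {k : ℕ}
    (hgen : Subgroup.closure ({s, t} : Set G) = ⊤) (hs : orderOf s = p) (hp2 : ¬ p ^ 2 ∣ Nat.card G)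
    (hn : n * s * n⁻¹ = s ^ k) (hk : ∀ j < p, j ≠ 0 → ∃ i < p, k ^ i % p = j)
    (ht : orderOf t = q) (P : Subgroup G) (hP : ¬ q ∣ P.index) (S : Set G)
    (hS : Subgroup.closure S = ⊤) (L : Set G) (hL : ∀ a ∈ S, ∀ x ∈ L, a * x * a⁻¹ ∈ L)
    (hPL : ∀ x ∈ P, orderOf x = q → x ∈ L)
    (hrig : ∀ x ∈ L, (∃ c : G, c * s * c⁻¹ = s ∧ c * t * c⁻¹ = x) ∨
      ∃ w, wordVal s t w = 1 ∧ wordVal s x w ≠ 1) :
    Nat.card (Out G) = 1 := by
  have hin : ∀ φ : MulAut G, φ ∈ Inn G := by
    intro φ
    obtain ⟨g, hg⟩ := isConj_of_order hs hp2 n k hn hk (x := φ s)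
      (by rw [← hs]; exact orderOf_injective φ.toMonoidHom φ.injective s)
    let ψ : MulAut G := (MulAut.conj g)⁻¹ * φ
    have hψs : ψ s = s := by
      show (MulAut.conj g).symm (φ s) = s
      rw [← hg, MulAut.conj_symm_apply]; group
    have hψt : ψ t ∈ L := by
      have ho : orderOf (ψ t) = q := by
        rw [← ht]; exact orderOf_injective ψ.toMonoidHom ψ.injective t
      obtain ⟨a, ha⟩ := exists_conj_mem P hP ho
      have ho' : orderOf (a⁻¹ * ψ t * a) = q := by
        rw [← ho]
        simpa [mul_assoc] using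
          orderOf_injective (MulAut.conj a⁻¹).toMonoidHom (MulAut.conj a⁻¹).injective (ψ t)
      have := conj_mem_of_gens hS L hL a (hPL _ ha ho')
      simpa [mul_assoc] using this
    rcases hrig _ hψt with ⟨c, hcs, hct⟩ | ⟨w, hw, hw'⟩
    · refine ⟨g * c, ?_⟩
      have heq : (MulAut.conj c : MulAut G).toMonoidHom = ψ.toMonoidHom := by
        refine MonoidHom.eq_of_eqOn_dense hgen ?_
        rintro y (rfl | rfl)
        · simp [hcs, hψs]
        · simp [hct]
      have hψ : MulAut.conj c = ψ := MulEquiv.ext fun y => DFunLike.congr_fun heq y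
      rw [map_mul, hψ]
      exact mul_inv_cancel_left _ _
    · refine absurd ?_ hw'
      have := map_wordVal ψ.toMonoidHom s t w
      rw [hw, map_one] at this
      simpa [hψs] using this.symm
  have : Inn G = ⊤ := eq_top_iff.2 fun φ _ => hin φ
  have hsub : Subsingleton (Out G) := by
    refine ⟨fun a b => ?_⟩
    obtain ⟨x, rfl⟩ := QuotientGroup.mk_surjective a
    obtain ⟨y, rfl⟩ := QuotientGroup.mk_surjective b
    rw [QuotientGroup.eq, this]
    trivial
  exact Nat.card_unique

end Cfsg.Agent.Lib.OutTrivial
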