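import Cfsg.Agent.Lib.OutTrivial.Basic

/-!
# Rigidity of a generating triple

`G = ⟨x, s, t⟩` with `x` of prime order `p` (Sylow `p`-subgroups of order `p`), `s` normalising `⟨x⟩`,
and `t` normalising `⟨s⟩`.  If the centralisers of `x` and of `s` are known, every automorphism can be
normalised to `x ↦ x ^ k, s ↦ s, t ↦ t * u`; finitely many relations then decide which of these
are automorphisms.
-/

set_option autoImplicit false

namespace Cfsg.Agent.Lib.OutTrivial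

universe u

variable {G : Type u} [Group G]

/-- The value of a word in three elements. -/
def val3 (x s t : G) : List (Fin 3) → G
  | [] => 1
  | i :: is => ![x, s, t] i * val3 x s t is

theorem map_val3 {H : Type*} [Group H] (f : G →* H) (x s t : G) :
    ∀ w, f (val3 x s t w) = val3 (f x) (f s) (f t) w
  | [] => map_one f
  | i :: is => by fin_cases i <;> simp [val3, map_val3 f x s t is]

/-- The data of a rigid triple. -/
structure Triple (G : Type u) [Group G] where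
  x : G
  s : G
  t : G
  p : ℕ
  r : ℕ
  e : ℕ
  U : Set G
  rels : List (List (Fin 3))
  prime : p.Prime
  gen : Subgroup.closure ({x, s, t} : Set G) = ⊤
  order_x : orderOf x = p
  sq : ¬ p ^ 2 ∣ Nat.card G
  conj_x : s * x * s⁻¹ = x ^ r
  conj_s : t * s * t⁻¹ = s ^ e
  cent_x : ∀ g : G, g * x * g⁻¹ = x → ∃ i < p, g = x ^ i
  shift : ∀ i < p, ∃ m : ℕ, s * x ^ i = x ^ m * s * (x ^ m)⁻¹
  cent_s : ∀ g : G, g * s * g⁻¹ = s → g ∈ U
  rel : ∀ w ∈ rels, val3 x s t w = 1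
  refute : ∀ u ∈ U, (∃ j : ℕ, t * u = s ^ j * t * (s ^ j)⁻¹) ∨
    ∀ k < p, k ≠ 0 → ∃ w ∈ rels, val3 (x ^ k) s (t * u) w ≠ 1

variable [Finite G]

namespace Triple

variable (T : Triple G)

theorem exists_normal_form (φ : MulAut G) :
    ∃ g : G, ∃ k < T.p, k ≠ 0 ∧ φ T.x = g * T.x ^ k * g⁻¹ ∧ φ T.s = g * T.s * g⁻¹ ∧
      φ T.t = g * T.t * g⁻¹ := by
  have : Fact T.p.Prime := ⟨T.prime⟩
  have hx1 : T.x ≠ 1 := fun h => T.prime.one_lt.ne' (by rw [← T.order_x, h, orderOf_one])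
  have hpowlt : ∀ m : ℕ, T.x ^ (m % T.p) = T.x ^ m := fun m => by
    rw [← T.order_x]; exact pow_mod_orderOf _ _
  have hidx : ¬ T.p ∣ (Subgroup.zpowers T.x).index := fun h => T.sq (by
    rw [← (Subgroup.zpowers T.x).card_mul_index, Nat.card_zpowers, T.order_x, pow_two]
    exact Nat.mul_dvd_mul_left T.p h)
  have hoφ : orderOf (φ T.x) = T.p := by
    rw [← T.order_x]; exact orderOf_injective φ.toMonoidHom φ.injective T.x
  obtain ⟨g, hg⟩ := exists_conj_mem _ hidx hoφ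
  obtain ⟨k, hk⟩ := (Submonoid.mem_powers_iff _ _).1 (mem_powers_iff_mem_zpowers.2 hg)
  have hk0 : k % T.p ≠ 0 := by
    intro h0
    rw [← hpowlt, h0, pow_zero] at hk
    have : φ T.x = 1 := by
      calc φ T.x = g * (g⁻¹ * φ T.x * g) * g⁻¹ := by group
        _ = 1 := by rw [← hk]; group
    exact hx1 (φ.injective (this.trans (map_one φ).symm))
  set ψ : MulAut G := (MulAut.conj g)⁻¹ * φ with hψ
  have hψv : ∀ y, ψ y = g⁻¹ * φ y * g := fun y => by
    show (MulAut.conj g).symm (φ y) = _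
    rw [MulAut.conj_symm_apply]
  have hψx : ψ T.x = T.x ^ k := by rw [hψv, hk]
  have hgenk : ∃ k' : ℕ, T.x = (T.x ^ k) ^ k' := by
    have hcop : Nat.Coprime k T.p := by
      rw [Nat.coprime_comm, T.prime.coprime_iff_not_dvd]
      exact fun h => hk0 (Nat.mod_eq_zero_of_dvd h)
    obtain ⟨m, hm⟩ := exists_pow_eq_self_of_coprime (x := T.x) (by rwa [T.order_x])
    exact ⟨m, hm.symm⟩
  -- the image of s
  have hψs : ∃ m : ℕ, ψ T.s = T.x ^ m * T.s * (T.x ^ m)⁻¹ := by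
    have h1 : ψ T.s * T.x ^ k * (ψ T.s)⁻¹ = T.s * T.x ^ k * T.s⁻¹ := by
      have ha : ψ T.s * T.x ^ k * (ψ T.s)⁻¹ = (T.x ^ k) ^ T.r := by
        rw [← hψx, ← map_inv, ← map_mul, ← map_mul, T.conj_x, map_pow]
      have hb : T.s * T.x ^ k * T.s⁻¹ = (T.x ^ T.r) ^ k := by rw [← conj_pow, T.conj_x]
      rw [ha, hb, ← pow_mul, ← pow_mul, mul_comm]
    have h2 : (T.s⁻¹ * ψ T.s) * T.x ^ k * (T.s⁻¹ * ψ T.s)⁻¹ = T.x ^ k := by
      calc _ = T.s⁻¹ * (ψ T.s * T.x ^ k * (ψ T.s)⁻¹) * T.s := by group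
        _ = _ := by rw [h1]; group
    obtain ⟨k', hk'⟩ := hgenk
    have h3 : (T.s⁻¹ * ψ T.s) * T.x * (T.s⁻¹ * ψ T.s)⁻¹ = T.x := by
      conv_lhs => rw [hk']
      rw [← conj_pow, h2, ← hk']
    obtain ⟨i, hi, hi'⟩ := T.cent_x _ h3
    obtain ⟨m, hm⟩ := T.shift i hi
    exact ⟨m, by rw [← hm, ← hi', mul_inv_cancel_left]⟩
  obtain ⟨m, hm⟩ := hψs
  have hφx : φ T.x = (g * T.x ^ m) * T.x ^ k * (g * T.x ^ m)⁻¹ := by
    calc φ T.x = g * ψ T.x * g⁻¹ := by rw [hψv]; group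
      _ = g * T.x ^ k * g⁻¹ := by rw [hψx]
      _ = g * (T.x ^ m * T.x ^ k * (T.x ^ m)⁻¹) * g⁻¹ := by
        rw [← pow_add, add_comm, pow_add, mul_inv_cancel_right]
      _ = _ := by group
  have hφs : φ T.s = (g * T.x ^ m) * T.s * (g * T.x ^ m)⁻¹ := by
    calc φ T.s = g * ψ T.s * g⁻¹ := by rw [hψv]; group
      _ = _ := by rw [hm]; group
  generalize g * T.x ^ m = h at hφx hφs
  clear hψ hψv hψx hm hk hg
  set χ : MulAut G := (MulAut.conj h)⁻¹ * φ with hχ
  have hχv : ∀ y, χ y = h⁻¹ * φ y * h := fun y => by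
    show (MulAut.conj h).symm (φ y) = _
    rw [MulAut.conj_symm_apply]
  have hχx : χ T.x = T.x ^ (k % T.p) := by rw [hχv, hφx, hpowlt]; group
  have hχs : χ T.s = T.s := by rw [hχv, hφs]; group
  -- the image of t
  have hu : T.t⁻¹ * χ T.t ∈ T.U := by
    refine T.cent_s _ ?_
    have h1 : χ T.t * T.s * (χ T.t)⁻¹ = T.t * T.s * T.t⁻¹ := by
      conv_lhs => rw [← hχs, ← map_inv, ← map_mul, ← map_mul, T.conj_s, map_pow, hχs, ← T.conj_s]
    calc _ = T.t⁻¹ * (χ T.t * T.s * (χ T.t)⁻¹) * T.t := by group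
      _ = T.s := by rw [h1]; group
  rcases T.refute _ hu with ⟨j, hj⟩ | href
  · rw [mul_inv_cancel_left] at hj
    have hnorm : ∀ n : ℕ, ∃ k'' : ℕ, T.s ^ n * T.x ^ (k % T.p) * (T.s ^ n)⁻¹ = T.x ^ k'' := by
      intro n
      induction n with
      | zero => exact ⟨k % T.p, by simp⟩
      | succ n ih =>
        obtain ⟨k'', hk''⟩ := ih
        refine ⟨T.r * k'', ?_⟩
        rw [pow_mul, ← T.conj_x, conj_pow, ← hk'', pow_succ']
        group
    obtain ⟨k2, hk2⟩ : ∃ k2 : ℕ, (T.s ^ j)⁻¹ * T.x ^ (k % T.p) * T.s ^ j = T.x ^ k2 := by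
      obtain ⟨n, hn⟩ := (Submonoid.mem_powers_iff _ _).1
        (mem_powers_iff_mem_zpowers.2 (Subgroup.inv_mem _ (Subgroup.npow_mem_zpowers T.s j)))
      obtain ⟨k2, hk2⟩ := hnorm n
      exact ⟨k2, by rw [← hk2, hn, inv_inv]⟩
    refine ⟨h * T.s ^ j, k2 % T.p, Nat.mod_lt _ T.prime.pos, ?_, ?_, ?_, ?_⟩
    · intro h0
      rw [← hpowlt k2, h0, pow_zero] at hk2
      have : χ T.x = 1 := by
        calc χ T.x = T.s ^ j * ((T.s ^ j)⁻¹ * T.x ^ (k % T.p) * T.s ^ j) * (T.s ^ j)⁻¹ := by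
              rw [hχx]; group
          _ = 1 := by rw [hk2]; group
      exact hx1 (χ.injective (this.trans (map_one χ).symm))
    · calc φ T.x = h * χ T.x * h⁻¹ := by rw [hχv]; group
        _ = _ := by rw [hχx, hpowlt k2, ← hk2]; group
    · calc φ T.s = h * χ T.s * h⁻¹ := by rw [hχv]; group
        _ = _ := by rw [hχs]; group
    · calc φ T.t = h * χ T.t * h⁻¹ := by rw [hχv]; group
        _ = _ := by rw [hj]; group
  · exfalso
    obtain ⟨w, hw, hne⟩ := href _ (Nat.mod_lt _ T.prime.pos) hk0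
    apply hne
    rw [mul_inv_cancel_left]
    have h1 := map_val3 χ.toMonoidHom T.x T.s T.t w
    rw [T.rel w hw, map_one] at h1
    simp only [MulEquiv.coe_toMonoidHom, hχx, hχs] at h1
    exact h1.symm

/-- Every automorphism is inner or inner times `e`, when every exponent is accounted for. -/
theorem mem_or (e : MulAut G) (hes : e T.s = T.s) (het : e T.t = T.t)
    (hk : ∀ k < T.p, k ≠ 0 → (∃ w ∈ T.rels, val3 (T.x ^ k) T.s T.t w ≠ 1) ∨
      ∃ g : G, g * T.s = T.s * g ∧ g * T.t = T.t * g ∧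
        (g * T.x * g⁻¹ = T.x ^ k ∨ g * e T.x * g⁻¹ = T.x ^ k))
    (φ : MulAut G) : φ ∈ Inn G ∨ φ * e⁻¹ ∈ Inn G := by
  obtain ⟨g, k, hkp, hk0, hx, hs, ht⟩ := T.exists_normal_form φ
  rcases hk k hkp hk0 with ⟨w, hw, hne⟩ | ⟨c, hcs, hct, hcx⟩
  · exfalso
    apply hne
    have h1 := map_val3 φ.toMonoidHom T.x T.s T.t w
    rw [T.rel w hw, map_one] at h1
    simp only [MulEquiv.coe_toMonoidHom, hx, hs, ht] at h1
    have h2 := map_val3 (MulAut.conj g).toMonoidHom (T.x ^ k) T.s T.t w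
    simp only [MulEquiv.coe_toMonoidHom, MulAut.conj_apply] at h2
    rw [← h1] at h2
    exact conj_eq_one_iff.mp h2
  · have hcs' : c * T.s * c⁻¹ = T.s := mul_inv_eq_iff_eq_mul.mpr hcs
    have hct' : c * T.t * c⁻¹ = T.t := mul_inv_eq_iff_eq_mul.mpr hct
    rcases hcx with hcx | hcx
    · left
      refine ⟨g * c, ?_⟩
      have heq : (MulAut.conj (g * c) : MulAut G).toMonoidHom = φ.toMonoidHom := by
        refine MonoidHom.eq_of_eqOn_dense T.gen ?_
        rintro y (rfl | rfl | rfl) <;>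
          simp only [MulEquiv.coe_toMonoidHom, MulAut.conj_apply, hx, hs, ht]
        · rw [← hcx]; group
        · conv_rhs => rw [← hcs']
          group
        · conv_rhs => rw [← hct']
          group
      exact MulEquiv.ext fun y => DFunLike.congr_fun heq y
    · right
      refine ⟨g * c, ?_⟩
      have heq : (MulAut.conj (g * c) * e : MulAut G).toMonoidHom = φ.toMonoidHom := by
        refine MonoidHom.eq_of_eqOn_dense T.gen ?_
        rintro y (rfl | rfl | rfl) <;>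
          simp only [MulEquiv.coe_toMonoidHom, MulAut.mul_apply, MulAut.conj_apply, hes, het, hx, hs,
            ht]
        · rw [← hcx]; group
        · conv_rhs => rw [← hcs']
          group
        · conv_rhs => rw [← hct']
          group
      have h : MulAut.conj (g * c) * e = φ := MulEquiv.ext fun y => DFunLike.congr_fun heq y
      rw [← h, mul_inv_cancel_right]

theorem card_out_one
    (hk : ∀ k < T.p, k ≠ 0 → (∃ w ∈ T.rels, val3 (T.x ^ k) T.s T.t w ≠ 1) ∨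
      ∃ g : G, g * T.s = T.s * g ∧ g * T.t = T.t * g ∧ g * T.x * g⁻¹ = T.x ^ k) :
    Nat.card (Out G) = 1 := by
  have hin : ∀ φ : MulAut G, φ ∈ Inn G := fun φ => by
    rcases T.mem_or 1 rfl rfl (fun k hkp hk0 => (hk k hkp hk0).imp_right
      fun ⟨c, h1, h2, h3⟩ => ⟨c, h1, h2, Or.inl h3⟩) φ with h | h
    · exact h
    · rwa [inv_one, mul_one] at h
  have hsub : Subsingleton (Out G) := by
    refine ⟨fun a b => ?_⟩
    obtain ⟨x, rfl⟩ := QuotientGroup.mk_surjective a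
    obtain ⟨y, rfl⟩ := QuotientGroup.mk_surjective b
    rw [QuotientGroup.eq]
    exact hin _
  exact Nat.card_unique

theorem card_out_two (e : MulAut G) (hes : e T.s = T.s) (het : e T.t = T.t)
    (hek : ∃ k, e T.x = T.x ^ k ∧ ∀ g : G, g * T.x * g⁻¹ ≠ T.x ^ k)
    (hk : ∀ k < T.p, k ≠ 0 → (∃ w ∈ T.rels, val3 (T.x ^ k) T.s T.t w ≠ 1) ∨
      ∃ g : G, g * T.s = T.s * g ∧ g * T.t = T.t * g ∧
        (g * T.x * g⁻¹ = T.x ^ k ∨ g * e T.x * g⁻¹ = T.x ^ k)) :
    Nat.card (Out G) = 2 := by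
  have hne : e ∉ Inn G := by
    rintro ⟨c, hc⟩
    obtain ⟨k, hk1, hk2⟩ := hek
    refine hk2 c ?_
    rw [← hk1, ← hc]
    rfl
  have hne' : (QuotientGroup.mk e : Out G) ≠ 1 := fun h =>
    hne ((QuotientGroup.eq_one_iff _).mp h)
  rw [Nat.card_eq_two_iff]
  refine ⟨QuotientGroup.mk e, 1, hne', Set.eq_univ_of_forall fun a => ?_⟩
  obtain ⟨φ, rfl⟩ := QuotientGroup.mk_surjective a
  rcases T.mem_or e hes het hk φ with h | h
  · exact Or.inr ((QuotientGroup.eq_one_iff _).mpr h)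
  · left
    have h1 : (QuotientGroup.mk (φ * e⁻¹) : Out G) = 1 := (QuotientGroup.eq_one_iff _).mpr h
    exact mul_inv_eq_one.mp h1

end Triple

end Cfsg.Agent.Lib.OutTrivial
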