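import Cfsg.Agent.Lib.Golay.Simple

/-!
# Certified search for the permutations of the code group that intertwine two given permutations

An intertwiner is determined by the images of one point in each orbit.  The orbits are taken one by one and
a partial assignment is dropped as soon as a word of the code supported on the assigned points
is sent outside the code.
-/

set_option autoImplicit false

namespace Cfsg.Agent.Lib.OutTrivial

open Cfsg
open scoped Pointwise
open Cfsg.Agent.Lib.Golay

/-- Conditions cutting out a subgroup: fixed indices and fixed masks. -/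
structure Spec where
  fix : List ℕ
  inv : List ℕ

/-- The conditions on a permutation. -/
def Spec.Holds (S : Spec) (g : Equiv.Perm GolayPt) : Prop :=
  g ∈ M24 ∧ (∀ i ∈ S.fix, idx (g (pt i)) = i) ∧ ∀ m ∈ S.inv, g • setOfMask m = setOfMask m

/-- The conditions are given by small indices and masks. -/
def Spec.ok (S : Spec) : Bool := S.fix.all (Nat.blt · 24) && S.inv.all (Nat.blt · (2 ^ 24))

/-- The test on a code. -/
def Spec.mem (S : Spec) (c : ℕ) : Bool :=
  inM24 c && (S.fix.all fun i => Nat.beq (Computation.getW 5 c i) i) &&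
    S.inv.all fun m => Nat.beq (permMask c m) m

theorem Spec.mem_spec {S : Spec} (hS : S.ok = true) {c : ℕ} (h : S.mem c = true) :
    okCode c = true ∧ S.Holds (gperm c) := by
  simp only [Spec.ok, Bool.and_eq_true, List.all_eq_true, Nat.blt_eq] at hS
  simp only [Spec.mem, Bool.and_eq_true, List.all_eq_true, Nat.beq_eq] at h
  have hok := okCode_of_inM24 h.1.1
  refine ⟨hok, gperm_mem_M24 h.1.1, fun i hi => ?_, fun m hm => ?_⟩
  · rw [idx_gperm hok, idx_pt (hS.1 i hi), h.1.2 i hi]
  · rw [smul_setOfMask hok, h.2 m hm]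

/-- The image of an index under a power of a code. -/
def powImg (c e q : ℕ) : ℕ := Nat.rec q (fun _ acc => Computation.getW 5 c acc) e

/-- One orbit: representative, length, members with exponents, and masks to test. -/
structure Level where
  rep : ℕ
  len : ℕ
  orb : List (ℕ × ℕ)
  masks : List ℕ

/-- The assigned indices after a level. -/
def Level.done (l : Level) (d : ℕ) : ℕ := l.orb.foldr (fun ie a => a ||| 2 ^ ie.1) d

/-- The well-formedness of the levels. -/
def levelsOk (c : ℕ) : List Level → ℕ → Bool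
  | [], d => (List.range 24).all fun i => d.testBit i
  | l :: ls, d =>
    Nat.blt l.rep 24 && Nat.beq (powImg c l.len l.rep) l.rep &&
      (l.orb.all fun ie => Nat.blt ie.1 24 && Nat.beq (powImg c ie.2 l.rep) ie.1) &&
      (l.masks.all fun m => inCode m && Nat.beq (m &&& l.done d) m) &&
      levelsOk c ls (l.done d)

/-- The image of a mask under a partial assignment. -/
def imgMask (a : List (ℕ × ℕ)) (m : ℕ) : ℕ :=
  a.foldr (fun iv o => bif m.testBit iv.1 then o ||| 2 ^ iv.2 else o) 0

/-- The search. -/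
def check (S : Spec) (c' : ℕ) (allowed : List ℕ) : List Level → List (ℕ × ℕ) → Bool
  | [], a => (S.inv.any fun m => !Nat.beq (imgMask a m) m) ||
      (a.any fun iv => a.any fun jv => Nat.beq iv.2 jv.2 && !Nat.beq iv.1 jv.1) ||
      allowed.any fun u => a.all fun iv => Nat.beq (Computation.getW 5 u iv.1) iv.2
  | l :: ls, a => (List.range 24).all fun q =>
      !(Nat.beq (powImg c' l.len q) q && (S.fix.all fun i => Nat.beq q i == Nat.beq l.rep i) &&
          S.inv.all fun m => m.testBit q == m.testBit l.rep) ||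
        (l.masks.any fun m =>
            !inCode (imgMask (l.orb.map (fun ie => (ie.1, powImg c' ie.2 q)) ++ a) m)) ||
          check S c' allowed ls (l.orb.map (fun ie => (ie.1, powImg c' ie.2 q)) ++ a)

/-- The search as one test. -/
def searchOk (S : Spec) (c c' : ℕ) (allowed : List ℕ) (ls : List Level) : Bool :=
  okCode c && okCode c' && S.ok && allowed.all okCode && levelsOk c ls 0 && check S c' allowed ls []

theorem powImg_lt {c : ℕ} (hc : okCode c = true) {q : ℕ} (hq : q < 24) :
    ∀ e, powImg c e q < 24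
  | 0 => hq
  | e + 1 => getW_lt hc (powImg_lt hc hq e)

theorem powImg_comm {c c' : ℕ} (hc : okCode c = true) (hc' : okCode c' = true)
    {g : Equiv.Perm GolayPt} (hg : g * gperm c = gperm c' * g) {q : ℕ} (hq : q < 24) :
    ∀ e, idx (g (pt (powImg c e q))) = powImg c' e (idx (g (pt q)))
  | 0 => rfl
  | e + 1 => by
    show idx (g (pt (Computation.getW 5 c (powImg c e q)))) =
      Computation.getW 5 c' (powImg c' e (idx (g (pt q))))
    have h : pt (Computation.getW 5 c (powImg c e q)) = gperm c (pt (powImg c e q)) := by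
      rw [gperm_apply hc, imgCode, idx_pt (powImg_lt hc hq e)]
    rw [h, ← Equiv.Perm.mul_apply, hg, Equiv.Perm.mul_apply, idx_gperm hc', powImg_comm hc hc' hg hq e]

/-- A partial assignment agrees with a permutation and covers the done indices. -/
def Good (g : Equiv.Perm GolayPt) (a : List (ℕ × ℕ)) (d : ℕ) : Prop :=
  (∀ iv ∈ a, iv.1 < 24 ∧ idx (g (pt iv.1)) = iv.2) ∧ ∀ i, d.testBit i = true → ∃ v, (i, v) ∈ a

theorem testBit_imgMask {m j : ℕ} : ∀ {a : List (ℕ × ℕ)},
    (imgMask a m).testBit j = true ↔ ∃ iv ∈ a, m.testBit iv.1 = true ∧ iv.2 = j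
  | [] => by simp [imgMask]
  | iv :: a => by
    have ih := testBit_imgMask (m := m) (j := j) (a := a)
    show (bif m.testBit iv.1 then imgMask a m ||| 2 ^ iv.2 else imgMask a m).testBit j = true ↔ _
    cases h : m.testBit iv.1 <;> simp [Nat.testBit_two_pow, ih, h, or_comm]

theorem imgMask_lt {g : Equiv.Perm GolayPt} {a : List (ℕ × ℕ)} {d : ℕ} (hG : Good g a d) (m : ℕ) :
    imgMask a m < 2 ^ 24 := by
  refine Nat.lt_pow_two_of_testBit _ fun j hj => ?_
  rw [Bool.eq_false_iff, ne_eq, testBit_imgMask]
  rintro ⟨iv, hiv, -, rfl⟩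
  have h := idx_lt (g (pt iv.1))
  rw [(hG.1 iv hiv).2] at h
  omega

theorem setOfMask_imgMask {g : Equiv.Perm GolayPt} {a : List (ℕ × ℕ)} {d : ℕ} (hG : Good g a d)
    {m : ℕ} (hm : ∀ i < 24, m.testBit i = true → d.testBit i = true) :
    setOfMask (imgMask a m) = g • setOfMask m := by
  ext q
  rw [mem_setOfMask, testBit_imgMask, Finset.mem_smul_finset]
  constructor
  · rintro ⟨iv, hiv, hb, he⟩
    obtain ⟨h1, h2⟩ := hG.1 iv hiv
    exact ⟨pt iv.1, mem_setOfMask.mpr (by rwa [idx_pt h1]),
      idx_injective ((h2.trans he) : idx (g (pt iv.1)) = idx q)⟩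
  · rintro ⟨p, hp, rfl⟩
    rw [mem_setOfMask] at hp
    obtain ⟨v, hv⟩ := hG.2 _ (hm _ (idx_lt p) hp)
    refine ⟨_, hv, hp, ?_⟩
    rw [← (hG.1 _ hv).2]
    show idx (g (pt (idx p))) = idx (g • p)
    rw [pt_idx]
    rfl

theorem done_testBit (l : Level) (d i : ℕ) :
    (l.done d).testBit i = true ↔ d.testBit i = true ∨ ∃ ie ∈ l.orb, ie.1 = i := by
  have h : ∀ o : List (ℕ × ℕ), (o.foldr (fun ie a => a ||| 2 ^ ie.1) d).testBit i = true ↔
      d.testBit i = true ∨ ∃ ie ∈ o, ie.1 = i := by
    intro o
    induction o with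
    | nil => simp
    | cons a o ih => simp [Nat.testBit_two_pow, ih, or_comm, or_left_comm]
  exact h l.orb

theorem check_sound {S : Spec} (hS : S.ok = true) {c c' : ℕ} (hc : okCode c = true)
    (hc' : okCode c' = true) {allowed : List ℕ} (hall : allowed.all okCode = true)
    {g : Equiv.Perm GolayPt} (hg : S.Holds g) (hcomm : g * gperm c = gperm c' * g) :
    ∀ (ls : List Level) (a : List (ℕ × ℕ)) (d : ℕ), levelsOk c ls d = true →
      check S c' allowed ls a = true → Good g a d → ∃ u ∈ allowed, g = gperm u := by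
  simp only [Spec.ok, Bool.and_eq_true, List.all_eq_true, Nat.blt_eq] at hS
  intro ls
  induction ls with
  | nil =>
    intro a d hl hk hG
    simp only [levelsOk, List.all_eq_true, List.mem_range] at hl
    simp only [check, Bool.or_eq_true, List.any_eq_true, Bool.not_eq_true',
      List.all_eq_true, Nat.beq_eq, Bool.and_eq_true] at hk
    rcases hk with (⟨m, hm, hne⟩ | ⟨iv, hiv, jv, hjv, h2, hne⟩) | ⟨u, hu, hag⟩
    · exfalso
      have he : imgMask a m = m := setOfMask_injOn (imgMask_lt hG m) (hS.2 m hm)
        ((setOfMask_imgMask hG fun i hi _ => hl i hi).trans (hg.2.2 m hm))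
      rw [he, Nat.beq_refl] at hne
      exact Bool.false_ne_true hne.symm
    · exfalso
      obtain ⟨hi, hiv'⟩ := hG.1 iv hiv
      obtain ⟨hj, hjv'⟩ := hG.1 jv hjv
      have he := g.injective (idx_injective (hiv'.trans (h2.trans hjv'.symm)))
      have he' := congrArg idx he
      rw [idx_pt hi, idx_pt hj] at he'
      rw [he', Nat.beq_refl] at hne
      exact Bool.false_ne_true hne.symm
    · refine ⟨u, hu, Equiv.ext fun p => idx_injective ?_⟩
      obtain ⟨v, hv⟩ := hG.2 _ (hl _ (idx_lt p))
      rw [idx_gperm (List.all_eq_true.mp hall u hu), hag _ hv, ← (hG.1 _ hv).2]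
      show idx (g p) = idx (g (pt (idx p)))
      rw [pt_idx]
  | cons l ls ih =>
    intro a d hl hk hG
    simp only [levelsOk, Bool.and_eq_true, List.all_eq_true, Nat.blt_eq, Nat.beq_eq] at hl
    obtain ⟨⟨⟨⟨hrep, hlen⟩, horb⟩, hmasks⟩, hrest⟩ := hl
    set q := idx (g (pt l.rep)) with hq
    have hk' := List.all_eq_true.mp (show (List.range 24).all _ = true from hk) q
      (List.mem_range.mpr (idx_lt _))
    simp only [Bool.or_eq_true, Bool.not_eq_true', List.any_eq_true] at hk'
    have hG' : Good g (l.orb.map (fun ie => (ie.1, powImg c' ie.2 q)) ++ a) (l.done d) := by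
      refine ⟨fun iv hiv => ?_, fun i hi => ?_⟩
      · rcases List.mem_append.mp hiv with hiv | hiv
        · obtain ⟨ie, hie, rfl⟩ := List.mem_map.mp hiv
          refine ⟨(horb ie hie).1, ?_⟩
          show idx (g (pt ie.1)) = powImg c' ie.2 q
          rw [hq, ← powImg_comm hc hc' hcomm hrep, (horb ie hie).2]
        · exact hG.1 iv hiv
      · rcases (done_testBit l d i).mp hi with hi | ⟨ie, hie, rfl⟩
        · obtain ⟨v, hv⟩ := hG.2 i hi
          exact ⟨v, List.mem_append_right _ hv⟩
        · exact ⟨_, List.mem_append_left _ (List.mem_map.mpr ⟨ie, hie, rfl⟩)⟩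
    rcases hk' with (hopt | ⟨m, hm, hne⟩) | hnext
    · exfalso
      rw [Bool.eq_false_iff] at hopt
      apply hopt
      simp only [Bool.and_eq_true, List.all_eq_true, Nat.beq_eq, beq_iff_eq]
      refine ⟨⟨?_, fun i hi => ?_⟩, fun m hm => ?_⟩
      · rw [hq, ← powImg_comm hc hc' hcomm hrep, hlen]
      · rw [Bool.eq_iff_iff, Nat.beq_eq, Nat.beq_eq, hq]
        constructor
        · intro h
          have h2 := idx_injective (h.trans (hg.2.1 i hi).symm)
          rw [← idx_pt hrep, ← idx_pt (hS.1 i hi), g.injective h2]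
        · rintro rfl
          exact hg.2.1 _ hi
      · rw [Bool.eq_iff_iff]
        have h1 : g (pt l.rep) ∈ g • setOfMask m ↔ pt l.rep ∈ setOfMask m := by
          rw [← Equiv.Perm.smul_def]
          exact Finset.smul_mem_smul_finset_iff g
        rw [hg.2.2 m hm, mem_setOfMask, mem_setOfMask, idx_pt hrep] at h1
        exact h1
    · exfalso
      have hsub : ∀ i < 24, m.testBit i = true → (l.done d).testBit i = true := fun i _ hb => by
        have h := (hmasks m hm).2
        have h2 := congrArg (·.testBit i) h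
        simp only [Nat.testBit_and] at h2
        rw [hb, Bool.true_and] at h2
        exact h2
      obtain ⟨w, hw, hws⟩ := smul_mem_supports hg.1 (setOfMask_mem_supports (hmasks m hm).1)
      rw [← setOfMask_imgMask hG' hsub, ← support₂_wordOfMask] at hws
      rw [support₂_injective hws] at hw
      rw [(wordOfMask_mem_iff (imgMask_lt hG' m)).mp hw] at hne
      exact Bool.false_ne_true hne.symm
    · exact ih _ _ hrest hnext hG'

/-- The search finds every intertwiner. -/
theorem searchOk_spec {S : Spec} {c c' : ℕ} {allowed : List ℕ} {ls : List Level}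
    (h : searchOk S c c' allowed ls = true) {g : Equiv.Perm GolayPt} (hg : S.Holds g)
    (hcomm : g * gperm c = gperm c' * g) : ∃ u ∈ allowed, g = gperm u := by
  simp only [searchOk, Bool.and_eq_true] at h
  obtain ⟨⟨⟨⟨⟨h1, h2⟩, h3⟩, h4⟩, h5⟩, h6⟩ := h
  exact check_sound h3 h1 h2 h4 hg hcomm ls [] 0 h5 h6
    ⟨fun _ h => absurd h List.not_mem_nil, fun i hi => by simp at hi⟩

end Cfsg.Agent.Lib.OutTrivial
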