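import Cfsg.Agent.Lib.OutTrivial.Triple
import Cfsg.Agent.Lib.OutTrivial.GolaySearch

/-!
# Certificates for the outer automorphism groups of subgroups of the code group
-/

set_option autoImplicit false

namespace Cfsg.Agent.Lib.OutTrivial

open Cfsg
open Cfsg.Agent.Lib.Golay

/-- The code of a power. -/
def cpow (c n : ℕ) : ℕ := Nat.rec oneCode (fun _ acc => Computation.mulP 24 5 c acc) n

/-- The code of a product. -/
def cmul (a b : ℕ) : ℕ := Computation.mulP 24 5 a b

/-- The code of a word in three codes. -/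
def cval (x s t : ℕ) : List (Fin 3) → ℕ
  | [] => oneCode
  | i :: is => cmul (![x, s, t] i) (cval x s t is)

/-- A code is not the code of the identity. -/
def notOne (c : ℕ) : Bool := (List.range 24).any fun i => !Nat.beq (Computation.getW 5 c i) i

/-- The certificate. -/
structure Cert where
  spec : Spec
  p : ℕ
  r : ℕ
  e : ℕ
  Q : ℕ
  x : ℕ
  s : ℕ
  t : ℕ
  U : List ℕ
  rels : List (List (Fin 3))
  lx : List Level
  ls : List Level

/-- The checks that make a rigid triple. -/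
def Cert.ok (D : Cert) : Bool :=
  D.spec.ok && D.spec.mem D.x && D.spec.mem D.s && D.spec.mem D.t &&
  Nat.beq (cpow D.x D.p) oneCode && notOne D.x &&
  Nat.beq (cmul D.s D.x) (cmul (cpow D.x D.r) D.s) &&
  Nat.beq (cmul D.t D.s) (cmul (cpow D.s D.e) D.t) &&
  searchOk D.spec D.x D.x ((List.range D.p).map (cpow D.x)) D.lx &&
  ((List.range D.p).all fun i => (List.range D.p).any fun m =>
    Nat.beq (cmul (cmul D.s (cpow D.x i)) (cpow D.x m)) (cmul (cpow D.x m) D.s)) &&
  searchOk D.spec D.s D.s D.U D.ls && D.U.all D.spec.mem &&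
  (D.rels.all fun w => Nat.beq (cval D.x D.s D.t w) oneCode) &&
  D.U.all fun u => ((List.range D.Q).any fun j =>
      Nat.beq (cmul (cmul D.t u) (cpow D.s j)) (cmul (cpow D.s j) D.t)) ||
    (List.range D.p).all fun k => Nat.beq k 0 ||
      D.rels.any fun w => notOne (cval (cpow D.x k) D.s (cmul D.t u) w)

/-- The checks on the exponents: `w` is the exponent of the outer automorphism. -/
def Cert.okExp (D : Cert) (w : ℕ) : Bool :=
  (List.range D.p).all fun k => Nat.beq k 0 ||
    (D.rels.any fun v => notOne (cval (cpow D.x k) D.s D.t v)) ||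
    (List.range D.Q).any fun j =>
      Nat.beq (cmul (cpow D.s j) D.t) (cmul D.t (cpow D.s j)) &&
        (Nat.beq (cmul (cpow D.s j) D.x) (cmul (cpow D.x k) (cpow D.s j)) ||
          Nat.beq (cmul (cpow D.s j) (cpow D.x w)) (cmul (cpow D.x k) (cpow D.s j)))

/-- The checks of an outer automorphism given by conjugation with the code `o`. -/
def Cert.okOuter (D : Cert) (w o : ℕ) (lo : List Level) : Bool :=
  okCode o && Nat.beq (cmul o D.x) (cmul (cpow D.x w) o) && Nat.beq (cmul o D.s) (cmul D.s o) &&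
    Nat.beq (cmul o D.t) (cmul D.t o) && searchOk D.spec D.x (cpow D.x w) [] lo

variable {K : Subgroup (Equiv.Perm GolayPt)}

/-- A member with a given code. -/
def Is (a : K) (c : ℕ) : Prop := okCode c = true ∧ (a : Equiv.Perm GolayPt) = gperm c

theorem Is.mul {a b : K} {c d : ℕ} (ha : Is a c) (hb : Is b d) : Is (a * b) (cmul c d) :=
  ⟨okCode_mulP ha.1 hb.1, by rw [Subgroup.coe_mul, ha.2, hb.2]; exact (gperm_mul ha.1 hb.1).symm⟩

theorem Is.pow {a : K} {c : ℕ} (ha : Is a c) (n : ℕ) : Is (a ^ n) (cpow c n) :=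
  ⟨(powCode ha.1 n).1, by rw [SubgroupClass.coe_pow, ha.2]; exact (powCode ha.1 n).2.symm⟩

theorem isOne : Is (1 : K) oneCode := ⟨okCode_oneCode, gperm_oneCode.symm⟩

theorem Is.val3 {a b c : K} {ca cb cc : ℕ} (ha : Is a ca) (hb : Is b cb) (hc : Is c cc) :
    ∀ w, Is (OutTrivial.val3 a b c w) (cval ca cb cc w)
  | [] => isOne
  | i :: is => by
    refine Is.mul ?_ (Is.val3 ha hb hc is)
    fin_cases i
    exacts [ha, hb, hc]

theorem Is.eq {a b : K} {c d : ℕ} (ha : Is a c) (hb : Is b d) (h : Nat.beq c d = true) : a = b :=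
  Subtype.ext (by rw [ha.2, hb.2, Nat.eq_of_beq_eq_true h])

theorem Is.ne_one {a : K} {c : ℕ} (ha : Is a c) (h : notOne c = true) : a ≠ 1 := by
  intro he
  obtain ⟨i, hi, hne⟩ := List.any_eq_true.1 h
  have hi' : i < 24 := List.mem_range.1 hi
  have h1 := idx_gperm ha.1 (pt i)
  rw [← ha.2, he, OneMemClass.coe_one, Equiv.Perm.one_apply, idx_pt hi'] at h1
  rw [← h1, Nat.beq_refl] at hne
  exact Bool.false_ne_true hne

variable {D : Cert} (hK : ∀ g, g ∈ K ↔ D.spec.Holds g) (hok : D.ok = true)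

/-- A member from a checked code. -/
noncomputable def mk (hS : D.spec.ok = true) {c : ℕ} (h : D.spec.mem c = true) : K :=
  ⟨gperm c, (hK _).2 (D.spec.mem_spec hS h).2⟩

theorem mk_is (hS : D.spec.ok = true) {c : ℕ} (h : D.spec.mem c = true) : Is (mk hK hS h) c :=
  ⟨(D.spec.mem_spec hS h).1, rfl⟩

include hK hok in
theorem exists_triple (hp : D.p.Prime) (hsq : ¬ D.p ^ 2 ∣ Nat.card K) {gens : List ℕ}
    (hgens : gens = [D.x, D.s, D.t]) {steps : List (Computation.Step ℕ)}
    {ch : List (Computation.Level ℕ)}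
    (hc : (Computation.permRep 24 5 (by decide)).checkClosure gens steps ch = true)
    (hcard : Nat.card K = (Computation.permRep 24 5 (by decide)).order ch) :
    ∃ T : Triple K, T.p = D.p ∧ Is T.x D.x ∧ Is T.s D.s ∧ Is T.t D.t ∧
      T.rels = D.rels := by
  have h := hok
  simp only [Cert.ok, Bool.and_eq_true, List.all_eq_true, List.any_eq_true, Bool.or_eq_true,
    List.mem_range] at h
  obtain ⟨⟨⟨⟨⟨⟨⟨⟨⟨⟨⟨⟨⟨hS, hx⟩, hs⟩, ht⟩, hxp⟩, hx1⟩, hsx⟩, hts⟩, hcx⟩, hshift⟩, hcs⟩, hU⟩, hrel⟩,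
    href⟩ := h
  set x := mk hK hS hx with hxdef
  set s := mk hK hS hs with hsdef
  set t := mk hK hS ht with htdef
  have ix : Is x D.x := mk_is hK hS hx
  have is' : Is s D.s := mk_is hK hS hs
  have it : Is t D.t := mk_is hK hS ht
  have hcomm : ∀ {a g : K} {c c' : ℕ}, Is a c → (∃ b : K, Is b c' ∧ g * a * g⁻¹ = b) →
      (g : Equiv.Perm GolayPt) * gperm c = gperm c' * g := by
    rintro a g c c' ha ⟨b, hb, he⟩
    rw [← ha.2, ← hb.2, ← Subgroup.coe_mul, ← Subgroup.coe_mul, ← mul_inv_eq_iff_eq_mul.mp he]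
  have hord : orderOf x = D.p := by
    haveI : Fact D.p.Prime := ⟨hp⟩
    exact orderOf_eq_prime ((ix.pow _).eq isOne hxp) (ix.ne_one hx1)
  have hgen : Subgroup.closure ({x, s, t} : Set K) = ⊤ := by
    apply Subgroup.map_injective K.subtype_injective
    rw [MonoidHom.map_closure, ← MonoidHom.range_eq_map, Subgroup.range_subtype]
    have hcl := closure_eq_of_cert (K := K) hc (fun c hc' => by
      rw [hgens] at hc'
      simp only [List.mem_cons, List.not_mem_nil, or_false] at hc'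
      rcases hc' with rfl | rfl | rfl
      exacts [x.2, s.2, t.2]) hcard
    conv_rhs => rw [hcl]
    congr 1
    rw [Set.image_insert_eq, Set.image_insert_eq, Set.image_singleton, hgens]
    ext y
    simp only [Set.mem_insert_iff, Set.mem_singleton_iff, Set.mem_image, Set.mem_ofPred_eq,
      List.mem_cons, List.not_mem_nil, or_false, Subgroup.coe_subtype]
    constructor
    · rintro (rfl | rfl | rfl)
      exacts [⟨_, Or.inl rfl, rfl⟩, ⟨_, Or.inr (Or.inl rfl), rfl⟩, ⟨_, Or.inr (Or.inr rfl), rfl⟩]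
    · rintro ⟨c, rfl | rfl | rfl, rfl⟩
      exacts [Or.inl rfl, Or.inr (Or.inl rfl), Or.inr (Or.inr rfl)]
  refine ⟨{
    x := x, s := s, t := t, p := D.p, r := D.r, e := D.e
    U := {u | ∃ c ∈ D.U, Is u c}
    rels := D.rels
    prime := hp
    gen := hgen
    order_x := hord
    sq := hsq
    conj_x := mul_inv_eq_iff_eq_mul.mpr ((is'.mul ix).eq ((ix.pow _).mul is') hsx)
    conj_s := mul_inv_eq_iff_eq_mul.mpr ((it.mul is').eq ((is'.pow _).mul it) hts)
    cent_x := fun g hg => ?_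
    shift := fun i hi => ?_
    cent_s := fun g hg => ?_
    rel := fun w hw => (ix.val3 is' it w).eq isOne (hrel w hw)
    refute := ?_ }, rfl, ix, is', it, rfl⟩
  · obtain ⟨u, hu, he⟩ := searchOk_spec hcx ((hK _).1 g.2) (hcomm ix ⟨x, ix, hg⟩)
    obtain ⟨i, hi, rfl⟩ := List.mem_map.mp hu
    exact ⟨i, List.mem_range.mp hi, Subtype.ext (he.trans (ix.pow i).2.symm)⟩
  · obtain ⟨m, -, hm⟩ := hshift i hi
    exact ⟨m, eq_mul_inv_of_mul_eq (((is'.mul (ix.pow i)).mul (ix.pow m)).eq ((ix.pow m).mul is') hm)⟩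
  · obtain ⟨u, hu, he⟩ := searchOk_spec hcs ((hK _).1 g.2) (hcomm is' ⟨s, is', hg⟩)
    exact ⟨u, hu, (D.spec.mem_spec hS (hU u hu)).1, he⟩
  · rintro u ⟨c, hc', hu⟩
    rcases href c hc' with ⟨j, -, hj⟩ | hall
    · exact Or.inl ⟨j, eq_mul_inv_of_mul_eq (((it.mul hu).mul (is'.pow j)).eq ((is'.pow j).mul it) hj)⟩
    · refine Or.inr fun k hk hk0 => ?_
      rcases hall k hk with h0 | ⟨w, hw, hne⟩
      · exact absurd (Nat.eq_of_beq_eq_true h0) hk0
      · exact ⟨w, hw, ((ix.pow k).val3 is' (it.mul hu) w).ne_one hne⟩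

include hK hok in
/-- Trivial outer automorphism group. -/
theorem card_out_one_of_cert (hp : D.p.Prime) (hexp : D.okExp 1 = true)
    (hsq : ¬ D.p ^ 2 ∣ Nat.card K) {gens : List ℕ}
    (hgens : gens = [D.x, D.s, D.t]) {steps : List (Computation.Step ℕ)}
    {ch : List (Computation.Level ℕ)}
    (hc : (Computation.permRep 24 5 (by decide)).checkClosure gens steps ch = true)
    (hcard : Nat.card K = (Computation.permRep 24 5 (by decide)).order ch) :
    Nat.card (Out K) = 1 := by
  obtain ⟨T, hp', ix, is', it, hr⟩ := exists_triple hK hok hp hsq hgens hc hcard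
  refine T.card_out_one fun k hk hk0 => ?_
  rw [hp'] at hk
  simp only [Cert.okExp, List.all_eq_true, List.any_eq_true, Bool.or_eq_true, Bool.and_eq_true,
    List.mem_range] at hexp
  rcases hexp k hk with (h0 | ⟨w, hw, hne⟩) | ⟨j, -, hj, hjx⟩
  · exact absurd (Nat.eq_of_beq_eq_true h0) hk0
  · exact Or.inl ⟨w, hr ▸ hw, ((ix.pow k).val3 is' it w).ne_one hne⟩
  · refine Or.inr ⟨T.s ^ j, pow_mul_comm' T.s j, ((is'.pow j).mul it).eq (it.mul (is'.pow j)) hj,
      mul_inv_eq_iff_eq_mul.mpr ?_⟩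
    rcases hjx with h | h
    · exact ((is'.pow j).mul ix).eq ((ix.pow k).mul (is'.pow j)) h
    · have := ((is'.pow j).mul (ix.pow 1)).eq ((ix.pow k).mul (is'.pow j)) h
      rwa [pow_one] at this

include hK hok in
/-- Outer automorphism group of order two. -/
theorem card_out_two_of_cert (hp : D.p.Prime) {w o : ℕ} {lo : List Level}
    (hexp : D.okExp w = true) (hout : D.okOuter w o lo = true)
    (hsq : ¬ D.p ^ 2 ∣ Nat.card K) {gens : List ℕ}
    (hgens : gens = [D.x, D.s, D.t]) {steps : List (Computation.Step ℕ)}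
    {ch : List (Computation.Level ℕ)}
    (hc : (Computation.permRep 24 5 (by decide)).checkClosure gens steps ch = true)
    (hcard : Nat.card K = (Computation.permRep 24 5 (by decide)).order ch) :
    Nat.card (Out K) = 2 := by
  obtain ⟨T, hp', ix, is', it, hr⟩ := exists_triple hK hok hp hsq hgens hc hcard
  simp only [Cert.okOuter, Bool.and_eq_true, Nat.beq_eq] at hout
  obtain ⟨⟨⟨⟨hoo, hox⟩, hos⟩, hot⟩, hno⟩ := hout
  set c : MulAut (Equiv.Perm GolayPt) := MulAut.conj (gperm o)
  have hconj : ∀ {a b : K} {ca cb : ℕ}, Is a ca → Is b cb → cmul o ca = cmul cb o →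
      c (a : Equiv.Perm GolayPt) = (b : Equiv.Perm GolayPt) := by
    intro a b ca cb ha hb he
    show gperm o * (a : Equiv.Perm GolayPt) * (gperm o)⁻¹ = (b : Equiv.Perm GolayPt)
    rw [mul_inv_eq_iff_eq_mul, ha.2, hb.2, ← gperm_mul hoo ha.1, ← gperm_mul hb.1 hoo]
    exact congrArg gperm he
  have ex := hconj ix (ix.pow w) hox
  have es := hconj is' is' hos
  have et := hconj it it hot
  have hmap : K.map c.toMonoidHom = K := by
    refine Subgroup.eq_of_le_of_card_ge ?_ (le_of_eq ?_)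
    · have hle : Subgroup.closure ({T.x, T.s, T.t} : Set K) ≤ (K.comap c.toMonoidHom).subgroupOf K := by
        rw [Subgroup.closure_le]
        rintro y (rfl | rfl | rfl) <;>
          simp only [SetLike.mem_coe, Subgroup.mem_subgroupOf, Subgroup.mem_comap,
            MulEquiv.coe_toMonoidHom]
        · rw [ex]; exact (T.x ^ w).2
        · rw [es]; exact T.s.2
        · rw [et]; exact T.t.2
      rw [T.gen] at hle
      rintro _ ⟨y, hy, rfl⟩
      exact hle (Subgroup.mem_top (⟨y, hy⟩ : K))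
    · exact (Subgroup.card_map_of_injective c.injective).symm
  set e : MulAut K := (Subgroup.equivMapOfInjective K c.toMonoidHom c.injective).trans
    (MulEquiv.subgroupCongr hmap) with he
  have hev : ∀ y : K, (e y : Equiv.Perm GolayPt) = c y := fun _ => rfl
  refine T.card_out_two e (Subtype.ext ((hev _).trans es)) (Subtype.ext ((hev _).trans et))
    ⟨w, Subtype.ext ((hev _).trans ex), fun g hg => ?_⟩ fun k hk hk0 => ?_
  · obtain ⟨u, hu, -⟩ := searchOk_spec hno ((hK _).1 g.2) (g := (g : Equiv.Perm GolayPt)) (by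
      rw [← ix.2, ← (ix.pow w).2, ← Subgroup.coe_mul, ← Subgroup.coe_mul,
        ← mul_inv_eq_iff_eq_mul.mp hg])
    exact List.not_mem_nil hu
  · rw [hp'] at hk
    simp only [Cert.okExp, List.all_eq_true, List.any_eq_true, Bool.or_eq_true, Bool.and_eq_true,
      List.mem_range] at hexp
    have hex : e T.x = T.x ^ w := Subtype.ext ((hev _).trans ex)
    rcases hexp k hk with (h0 | ⟨v, hv, hne⟩) | ⟨j, -, hj, hjx⟩
    · exact absurd (Nat.eq_of_beq_eq_true h0) hk0
    · exact Or.inl ⟨v, hr ▸ hv, ((ix.pow k).val3 is' it v).ne_one hne⟩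
    · refine Or.inr ⟨T.s ^ j, pow_mul_comm' T.s j, ((is'.pow j).mul it).eq (it.mul (is'.pow j)) hj, ?_⟩
      rcases hjx with h | h
      · exact Or.inl (mul_inv_eq_iff_eq_mul.mpr (((is'.pow j).mul ix).eq ((ix.pow k).mul (is'.pow j)) h))
      · exact Or.inr (hex ▸ mul_inv_eq_iff_eq_mul.mpr
          (((is'.pow j).mul (ix.pow w)).eq ((ix.pow k).mul (is'.pow j)) h))

end Cfsg.Agent.Lib.OutTrivial
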