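import Cfsg.Agent.Lib.Computation.PermCode

/-!
# Certified centralisers in permutation groups given by a stabiliser chain

If all base points lie in the orbit of one point under `x`, an element commuting with `x` is
determined by the image of that point; the candidates are rebuilt from the transversals.
-/

set_option autoImplicit false

namespace Cfsg.Agent.Lib.OutTrivial.ChainCentral

open Cfsg.Agent.Lib.Computation

variable {n w : ℕ} [NeZero n] {hw : n ≤ 2 ^ w}

/-- The image of an index under a power of a code. -/
def powImg (w x e q : ℕ) : ℕ := Nat.rec q (fun _ acc => getW w x acc) e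

/-- The base points are the given powers of `x` applied to `b`. -/
def basesOk (w x b : ℕ) : List (Computation.Level ℕ) → List ℕ → Bool
  | [], _ => true
  | L :: rest, e :: es => Nat.beq L.base (powImg w x e b) && basesOk w x b rest es
  | _ :: _, [] => false

/-- The element sending each base point to the given image. -/
def cand (n w x a : ℕ) : List (Computation.Level ℕ) → List ℕ → ℕ → ℕ → Option ℕ
  | [], _, h, _ => some h
  | L :: rest, e :: es, h, hi =>
    match L.orb.lookup (getW w hi (powImg w x e a)) with
    | none => none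
    | some E => cand n w x a rest es (mulP n w h E.fwd) (mulP n w E.bwd hi)
  | _ :: _, [], _, _ => none

/-- Every element commuting with `x` occurs in `U`. -/
def centOk (n w x b : ℕ) (ch : List (Computation.Level ℕ)) (es : List ℕ) (U : List ℕ) : Bool :=
  Nat.blt b n && okPerm n w x && basesOk w x b ch es && (List.range n).all fun a =>
    match cand n w x a ch es (packW w (fun i => i) n) (packW w (fun i => i) n) with
    | none => true
    | some c => !(Nat.beq (mulP n w x c) (mulP n w c x)) || U.any (Nat.beq c)

theorem powImg_lt {x q : ℕ} (hx : okPerm n w x = true) (hq : q < n) : ∀ e, powImg w x e q < n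
  | 0 => hq
  | e + 1 => okPerm_lt hx (powImg_lt hx hq e)

theorem cand_spec {x a b : ℕ} (hx : okPerm n w x = true) (hb : b < n) (ha : a < n)
    {g : Equiv.Perm (Fin n)}
    (hg : ∀ e, g (Fin.ofNat n (powImg w x e b)) = Fin.ofNat n (powImg w x e a)) :
    ∀ (ch : List (Computation.Level ℕ)) (es : List ℕ) (h hi : ℕ),
      (permRep n w hw).checkChain ch = true → basesOk w x b ch es = true → okPerm n w h = true →
      okPerm n w hi = true → decodeP n w hi = (decodeP n w h)⁻¹ →
      (decodeP n w h)⁻¹ * g ∈ (permRep n w hw).grp ch →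
      ∃ c, cand n w x a ch es h hi = some c ∧ okPerm n w c = true ∧ decodeP n w c = g := by
  intro ch
  induction ch with
  | nil =>
    intro es h hi _ _ hh _ _ hm
    rw [(permRep n w hw).grp_nil, Subgroup.mem_bot] at hm
    exact ⟨h, rfl, hh, (inv_mul_eq_one.1 hm)⟩
  | cons L rest ih =>
    intro es h hi hc hb' hh hhi hinv hm
    cases es with
    | nil => simp [basesOk] at hb'
    | cons e es =>
      simp only [basesOk, Bool.and_eq_true, Nat.beq_eq] at hb'
      obtain ⟨E₀, hE₀, k, hk, hd⟩ := (permRep n w hw).decomp hc hm
      have F := (permRep n w hw).levelFacts hc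
      have hlt : getW w hi (powImg w x e a) < n := okPerm_lt hhi (powImg_lt hx ha e)
      have hpt : E₀.point = getW w hi (powImg w x e a) := by
        have hp0 : E₀.point < n := by
          have := F.ptOk_point E₀ hE₀
          simpa [Nat.blt_eq] using this
        have h1 : ((decodeP n w h)⁻¹ * g) • Fin.ofNat n L.base = Fin.ofNat n E₀.point := by
          show ((decodeP n w h)⁻¹ * g) • (permRep n w hw).pt L.base = (permRep n w hw).pt E₀.point
          rw [hd, mul_smul, (permRep n w hw).fix_base hc hk, (permRep n w hw).fwd_smul_base hc hE₀]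
        rw [mul_smul, Equiv.Perm.smul_def, Equiv.Perm.smul_def, hb'.1, hg, ← hinv] at h1
        have h2 := congrArg Fin.val h1
        rw [decodeP_apply hhi, Fin.val_ofNat, Fin.val_ofNat, Nat.mod_eq_of_lt (powImg_lt hx ha e),
          Nat.mod_eq_of_lt hp0] at h2
        exact h2.symm
      have hsome := F.find_point E₀ hE₀
      cases hf : L.orb.find E₀.point with
      | none => simp [hf] at hsome
      | some E =>
        obtain ⟨hE, hEp⟩ := Orbit.find_some hf
        obtain rfl := (permRep n w hw).entry_eq hc hE hE₀ (by rw [hEp])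
        have hok1 := okPerm_mulP hh (F.fwd_ok E hE)
        have hok2 := okPerm_mulP (F.bwd_ok E hE) hhi
        obtain ⟨c, hc1, hc2⟩ := ih es _ _ ((permRep n w hw).checkChain_tail hc) hb'.2 hok1 hok2
          (by rw [decodeP_mulP (F.bwd_ok E hE) hhi, decodeP_mulP hh (F.fwd_ok E hE), mul_inv_rev, hinv]
              congr 1
              exact F.bwd_eq E hE)
          (by rw [decodeP_mulP hh (F.fwd_ok E hE), mul_inv_rev, mul_assoc, hd]
              simpa using hk)
        refine ⟨c, ?_, hc2⟩
        simp only [cand, Orbit.lookup_eq, ← hpt, hf]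
        exact hc1

theorem mem_of_commute {x b : ℕ} {ch : List (Computation.Level ℕ)} {es U : List ℕ}
    (hc : (permRep n w hw).checkChain ch = true) (hok : centOk n w x b ch es U = true)
    {g : Equiv.Perm (Fin n)} (hm : g ∈ (permRep n w hw).grp ch)
    (hg : g * decodeP n w x = decodeP n w x * g) :
    ∃ c ∈ U, okPerm n w c = true ∧ decodeP n w c = g := by
  simp only [centOk, Bool.and_eq_true, List.all_eq_true, List.mem_range, Nat.blt_eq] at hok
  obtain ⟨⟨⟨hb, hx⟩, hbase⟩, hall⟩ := hok
  set a : ℕ := (g (Fin.ofNat n b) : Fin n).val with hadef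
  have ha : a < n := Fin.isLt _
  have hpow : ∀ e, g (Fin.ofNat n (powImg w x e b)) = Fin.ofNat n (powImg w x e a) := by
    intro e
    induction e with
    | zero =>
      refine Fin.ext ?_
      show _ = a % n
      rw [Nat.mod_eq_of_lt ha]
      rfl
    | succ e ih =>
      have hstep : ∀ q, q < n → Fin.ofNat n (powImg w x (e + 1) q) =
          decodeP n w x (Fin.ofNat n (powImg w x e q)) := fun q hq => Fin.ext (by
        rw [decodeP_apply hx, Fin.val_ofNat, Fin.val_ofNat, Nat.mod_eq_of_lt (powImg_lt hx hq _),
          Nat.mod_eq_of_lt (powImg_lt hx hq _)]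
        rfl)
      rw [hstep b hb, hstep a ha, ← ih]
      exact congrArg (fun σ : Equiv.Perm (Fin n) => σ (Fin.ofNat n (powImg w x e b))) hg
  have hone : okPerm n w (packW w (fun i => i) n) = true := (permRep n w hw).ok_one
  have hval : decodeP n w (packW w (fun i => i) n) = 1 := (permRep n w hw).val_one
  obtain ⟨c, hc1, hc2, hc3⟩ := cand_spec hx hb ha hpow ch es _ _ hc hbase hone hone
    (by rw [hval, inv_one]) (by rw [hval, inv_one, one_mul]; exact hm)
  have h := hall a ha
  simp only [hc1, Bool.or_eq_true, Bool.not_eq_true', List.any_eq_true] at h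
  rcases h with h | ⟨d, hd, hcd⟩
  · exfalso
    have he : mulP n w x c = mulP n w c x := by
      have congr_pack : ∀ (f f' : ℕ → ℕ) (k : ℕ), (∀ i < k, f i = f' i) → packW w f k = packW w f' k := by
        intro f f' k
        induction k with
        | zero => intro _; rfl
        | succ k ih =>
          intro hff
          rw [packW_succ, packW_succ, hff k k.lt_succ_self, ih fun i hi => hff i (Nat.lt_succ_of_lt hi)]
      simp only [mulP, forceNat_eq]
      refine congr_pack _ _ n fun i hi => ?_
      have h1 := decodeP_apply hc2 ⟨i, hi⟩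
      have h2 := decodeP_apply hx (decodeP n w c ⟨i, hi⟩)
      have h3 := decodeP_apply hx ⟨i, hi⟩
      have h4 := decodeP_apply hc2 (decodeP n w x ⟨i, hi⟩)
      rw [h1] at h2
      rw [h3] at h4
      rw [← h2, ← h4, hc3]
      exact congrArg (fun σ : Equiv.Perm (Fin n) => ((σ ⟨i, hi⟩ : Fin n) : ℕ)) hg.symm
    rw [he, Nat.beq_refl] at h
    exact Bool.noConfusion h
  · exact ⟨d, hd, by rw [← Nat.eq_of_beq_eq_true hcd]; exact ⟨hc2, hc3⟩⟩

end Cfsg.Agent.Lib.OutTrivial.ChainCentral
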