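import Cfsg.Agent.Lib.OutTrivial.Normal
import Cfsg.Agent.Lib.OutTrivial.ChainCentral
import Cfsg.Agent.Lib.OutTrivial.J2Cert
import Cfsg.Agent.Lib.SporJ2.Group

/-!
# The outer automorphism group of the Hall-Janko group on one hundred points has order two
-/

set_option autoImplicit false
set_option maxRecDepth 8000

namespace Cfsg.Agent.Lib.OutTrivial.J2Out

open Cfsg Cfsg.Agent.Lib
open Cfsg.Agent.Lib.Computation (permRep decodeP okPerm mulP getW packW decodeP_mulP okPerm_mulP decodeP_apply)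
open J2Cert

theorem hw : 100 ≤ 2 ^ 7 := by decide

/-- The representation. -/
noncomputable abbrev R := permRep 100 7 hw

/-- The group on 100 points. -/
noncomputable abbrev K := SporJ2.K100

theorem gens_cx : cx_gens = SporJ2.gens100 ∧ cs_gens = SporJ2.gens100 ∧ xst_gens = [xc, sc, tc] := by
  decide +kernel

theorem K_eq {gens : List ℕ} (h : gens = SporJ2.gens100) {steps : List (Computation.Step ℕ)}
    {c : List (Computation.Level ℕ)} (hc : R.checkClosure gens steps c = true) : K = R.grp c := by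
  rw [← R.closure_eq_grp hc, h]
  exact congrArg Subgroup.closure (SporJ2.range_decode _ SporJ2.gens_eq.2.2.1)

theorem K_cx : K = R.grp cx_chain := K_eq gens_cx.1 cx_check
theorem K_cs : K = R.grp cs_chain := K_eq gens_cx.2.1 cs_check
theorem chain_cx : R.checkChain cx_chain = true := R.checkChain_of_checkClosure cx_check
theorem chain_cs : R.checkChain cs_chain = true := R.checkChain_of_checkClosure cs_check

/-- The code of the identity. -/
def one' : ℕ := packW 7 (fun i => i) 100

/-- The code of a product. -/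
def mul' (a b : ℕ) : ℕ := mulP 100 7 a b

/-- The code of a power. -/
def pow' (c m : ℕ) : ℕ := Nat.rec one' (fun _ acc => mul' c acc) m

/-- The code of a word. -/
def word' (a b c : ℕ) : List (Fin 3) → ℕ
  | [] => one'
  | i :: is => mul' (![a, b, c] i) (word' a b c is)

/-- Membership by sifting. -/
noncomputable def mem' (c : ℕ) : Bool := okPerm 100 7 c && R.sift cx_chain c

/-- A member with a given code. -/
def Is (a : K) (c : ℕ) : Prop := okPerm 100 7 c = true ∧ (a : Equiv.Perm (Fin 100)) = decodeP 100 7 c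

/-- A member from a checked code. -/
noncomputable def mk' {c : ℕ} (h : mem' c = true) : K :=
  ⟨decodeP 100 7 c, K_cx ▸ R.mem_grp_of_sift chain_cx (Bool.and_eq_true_iff.1 h).1
    (Bool.and_eq_true_iff.1 h).2⟩

theorem mk'_is {c : ℕ} (h : mem' c = true) : Is (mk' h) c := ⟨(Bool.and_eq_true_iff.1 h).1, rfl⟩

theorem Is.mul {a b : K} {c d : ℕ} (ha : Is a c) (hb : Is b d) : Is (a * b) (mul' c d) :=
  ⟨okPerm_mulP ha.1 hb.1, by rw [Subgroup.coe_mul, ha.2, hb.2]; exact (decodeP_mulP ha.1 hb.1).symm⟩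

theorem isOne : Is (1 : K) one' := ⟨R.ok_one, R.val_one.symm⟩

theorem Is.pow {a : K} {c : ℕ} (ha : Is a c) : ∀ m : ℕ, Is (a ^ m) (pow' c m)
  | 0 => by rw [pow_zero]; exact isOne
  | m + 1 => by rw [pow_succ']; exact ha.mul (Is.pow ha m)

theorem Is.word {a b c : K} {ca cb cc : ℕ} (ha : Is a ca) (hb : Is b cb) (hc : Is c cc) :
    ∀ w, Is (val3 a b c w) (word' ca cb cc w)
  | [] => isOne
  | i :: is => by
    refine Is.mul ?_ (Is.word ha hb hc is)
    fin_cases i
    exacts [ha, hb, hc]

theorem Is.eq {a b : K} {c d : ℕ} (ha : Is a c) (hb : Is b d) (h : Nat.beq c d = true) : a = b :=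
  Subtype.ext (by rw [ha.2, hb.2, Nat.eq_of_beq_eq_true h])

/-- A code is not that of the identity. -/
def ne' (c d : ℕ) : Bool := (List.range 100).any fun i => !Nat.beq (getW 7 c i) (getW 7 d i)

theorem Is.ne {a b : K} {c d : ℕ} (ha : Is a c) (hb : Is b d) (h : ne' c d = true) : a ≠ b := by
  intro he
  obtain ⟨i, hi, hne⟩ := List.any_eq_true.1 h
  have hi' : i < 100 := List.mem_range.1 hi
  have h1 := decodeP_apply ha.1 ⟨i, hi'⟩
  rw [← ha.2, he, hb.2, decodeP_apply hb.1 ⟨i, hi'⟩] at h1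
  rw [show getW 7 d i = getW 7 c i from h1, Nat.beq_refl] at hne
  exact Bool.false_ne_true hne

theorem base_ok : (mem' xc && mem' sc && mem' tc && mem' etc' && okPerm 100 7 zc &&
    Nat.beq (pow' xc 7) one' && ne' xc one' && Nat.beq (mul' sc xc) (mul' (pow' xc rExp) sc) &&
    Nat.beq (mul' tc sc) (mul' (pow' sc eExp) tc) &&
    ((List.range 7).all fun i => (List.range 7).any fun m =>
      Nat.beq (mul' (mul' sc (pow' xc i)) (pow' xc m)) (mul' (pow' xc m) sc)) &&
    Nat.beq (mul' zc xc) (mul' xc zc) && Nat.beq (mul' zc sc) (mul' sc zc) &&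
    Nat.beq (mul' zc tc) (mul' etc' zc) &&
    (SporJ2.gens100.all fun g => okPerm 100 7 g && mem' (mul' (mul' zc g) zc)) &&
    Nat.beq (mul' zc zc) one') = true := by decide +kernel

theorem cent_x_ok : ChainCentral.centOk 100 7 xc bx cx_chain exs ((List.range 7).map (pow' xc)) = true := by
  decide +kernel

theorem cent_s_ok : ChainCentral.centOk 100 7 sc bs cs_chain ess U = true := by decide +kernel

theorem U_ok : (U.all fun c => mem' c &&
    (ne' (mul' c xc) (mul' xc c) || ne' (mul' c tc) (mul' etc' c))) = true := by decide +kernel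

theorem rels_ok : (rels.all fun w => Nat.beq (word' xc sc tc w) one') = true := by decide +kernel

theorem cases_ok : (U.all fun u => (List.range 7).all fun k => Nat.beq k 0 ||
    (rels.any fun w => ne' (word' (pow' xc k) sc (mul' tc u) w) one') ||
    (U.any fun c => Nat.beq (mul' c sc) (mul' sc c) &&
      ((Nat.beq (mul' c xc) (mul' (pow' xc k) c) && Nat.beq (mul' c tc) (mul' (mul' tc u) c)) ||
        (Nat.beq (mul' c xc) (mul' (pow' xc k) c) && Nat.beq (mul' c etc') (mul' (mul' tc u) c))))) = true := by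
  decide +kernel

theorem xst_order : R.order xst_chain = 604800 := by decide +kernel

theorem card_out : Nat.card (Cfsg.Out K) = 2 := by
  have : Finite K := Nat.finite_of_card_ne_zero (by rw [SporJ2.card_K100]; norm_num)
  have h := base_ok
  simp only [Bool.and_eq_true, List.all_eq_true, List.any_eq_true, List.mem_range] at h
  obtain ⟨⟨⟨⟨⟨⟨⟨⟨⟨⟨⟨⟨⟨⟨hx, hs⟩, ht⟩, het⟩, hz⟩, hx7⟩, hx1⟩, hsx⟩, hts⟩, hshift⟩, hzx⟩, hzs⟩,
    hzt⟩, hzg⟩, hzz⟩ := h
  set x := mk' hx with hxdef
  set s := mk' hs with hsdef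
  set t := mk' ht with htdef
  have ix : Is x xc := mk'_is hx
  have is' : Is s sc := mk'_is hs
  have it : Is t tc := mk'_is ht
  set z : Equiv.Perm (Fin 100) := decodeP 100 7 zc with hzdef
  have hz2 : z * z = 1 := by
    rw [hzdef, ← decodeP_mulP hz hz, show mulP 100 7 zc zc = one' from Nat.eq_of_beq_eq_true hzz]
    exact R.val_one
  have hzK : K.map (MulAut.conj z).toMonoidHom = K := by
    refine Subgroup.eq_of_le_of_card_ge ?_ ?_
    · show (Subgroup.closure (Set.range SporJ2.perm100)).map _ ≤ K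
      rw [MonoidHom.map_closure, Subgroup.closure_le]
      rintro _ ⟨_, ⟨g, rfl⟩, rfl⟩
      have hgm : (SporJ2.gens100.getD g 0) ∈ SporJ2.gens100 := by
        rw [List.getD_eq_getElem _ _ (SporJ2.gens_eq.2.2.1.symm ▸ g.2)]
        exact List.getElem_mem _
      obtain ⟨hg1, hg2⟩ := hzg _ hgm
      have hi := mk'_is hg2
      show z * SporJ2.perm100 g * z⁻¹ ∈ K
      rw [inv_eq_of_mul_eq_one_right hz2]
      have he : z * SporJ2.perm100 g * z = (mk' hg2 : K) := by
        rw [hi.2, SporJ2.perm100, mul', mul', decodeP_mulP (okPerm_mulP hz hg1) hz, decodeP_mulP hz hg1]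
      rw [he]
      exact (mk' hg2).2
    · rw [Subgroup.card_map_of_injective (MulAut.conj z).injective]
  let ε : MulAut K := ((MulAut.conj z).subgroupMap K).trans (MulEquiv.subgroupCongr hzK)
  have hεv : ∀ g : K, ((ε g : K) : Equiv.Perm (Fin 100)) = z * g * z⁻¹ := fun g => rfl
  have hεof : ∀ {a b : K} {c d : ℕ}, Is a c → Is b d → Nat.beq (mul' zc c) (mul' d zc) = true →
      ε a = b := by
    intro a b c d ha hb hh
    refine Subtype.ext ?_
    rw [hεv, mul_inv_eq_iff_eq_mul, ha.2, hb.2, hzdef, ← decodeP_mulP hz ha.1, ← decodeP_mulP hb.1 hz]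
    exact congrArg _ (Nat.eq_of_beq_eq_true hh)
  have hεx : ε x = x := hεof ix ix hzx
  have hεs : ε s = s := hεof is' is' hzs
  have hεt : ε t = mk' het := hεof it (mk'_is het) hzt
  have hgen : Subgroup.closure ({x, s, t} : Set K) = ⊤ := by
    apply Subgroup.map_injective K.subtype_injective
    rw [MonoidHom.map_closure, ← MonoidHom.range_eq_map, Subgroup.range_subtype]
    have hcl : Subgroup.closure (decodeP 100 7 '' {c | c ∈ xst_gens}) = K := by
      refine Subgroup.eq_of_le_of_card_ge ?_ ?_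
      · rw [Subgroup.closure_le, gens_cx.2.2]
        rintro _ ⟨c, hc, rfl⟩
        simp only [Set.mem_ofPred_eq, List.mem_cons, List.not_mem_nil, or_false] at hc
        rcases hc with rfl | rfl | rfl
        exacts [x.2, s.2, t.2]
      · rw [SporJ2.card_K100]
        exact le_of_eq ((R.card_closure xst_check).trans xst_order).symm
    conv_rhs => rw [← hcl]
    refine congrArg Subgroup.closure ?_
    rw [gens_cx.2.2, Set.image_insert_eq, Set.image_insert_eq, Set.image_singleton]
    ext y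
    simp only [Set.mem_insert_iff, Set.mem_singleton_iff, Set.mem_image, Set.mem_ofPred_eq,
      List.mem_cons, List.not_mem_nil, or_false, Subgroup.coe_subtype]
    constructor
    · rintro (rfl | rfl | rfl)
      exacts [⟨_, Or.inl rfl, rfl⟩, ⟨_, Or.inr (Or.inl rfl), rfl⟩, ⟨_, Or.inr (Or.inr rfl), rfl⟩]
    · rintro ⟨c, rfl | rfl | rfl, rfl⟩
      exacts [Or.inl rfl, Or.inr (Or.inl rfl), Or.inr (Or.inr rfl)]
  have h7 : Nat.Prime 7 := by decide
  have hord : orderOf x = 7 := by
    have : Fact (Nat.Prime 7) := ⟨h7⟩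
    exact orderOf_eq_prime ((ix.pow 7).eq isOne hx7) (ix.ne isOne hx1)
  have hcomm : ∀ {a g : K} {c : ℕ}, Is a c → g * a * g⁻¹ = a →
      (g : Equiv.Perm (Fin 100)) * decodeP 100 7 c = decodeP 100 7 c * g := by
    intro a g c ha he
    rw [← ha.2, ← Subgroup.coe_mul, ← Subgroup.coe_mul, ← mul_inv_eq_iff_eq_mul.mp he]
  let F : Frame K := {
    x := x, s := s, t := t, p := 7, r := rExp, e := eExp
    U := {u | ∃ c ∈ U, Is u c}
    prime := h7
    gen := hgen
    order_x := hord
    sq := by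
      show ¬ 7 ^ 2 ∣ Nat.card K
      rw [SporJ2.card_K100]
      decide +kernel
    conj_x := mul_inv_eq_iff_eq_mul.mpr ((is'.mul ix).eq ((ix.pow _).mul is') hsx)
    conj_s := mul_inv_eq_iff_eq_mul.mpr ((it.mul is').eq ((is'.pow _).mul it) hts)
    cent_x := fun g hg => by
      obtain ⟨c, hc, -, hce⟩ :=
        ChainCentral.mem_of_commute chain_cx cent_x_ok (K_cx ▸ g.2) (hcomm ix hg)
      obtain ⟨i, hi, rfl⟩ := List.mem_map.mp hc
      exact ⟨i, List.mem_range.mp hi, Subtype.ext (hce.symm.trans (ix.pow i).2.symm)⟩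
    shift := fun i hi => by
      obtain ⟨m, -, hm⟩ := hshift i hi
      exact ⟨m, eq_mul_inv_of_mul_eq (((is'.mul (ix.pow i)).mul (ix.pow m)).eq ((ix.pow m).mul is') hm)⟩
    cent_s := fun g hg => by
      obtain ⟨c, hc, hok, hce⟩ :=
        ChainCentral.mem_of_commute chain_cs cent_s_ok (K_cs ▸ g.2) (hcomm is' hg)
      exact ⟨c, hc, hok, hce.symm⟩ }
  have hU := U_ok
  have hR := rels_ok
  have hC := cases_ok
  simp only [Bool.and_eq_true, Bool.or_eq_true, List.all_eq_true, List.any_eq_true, List.mem_range] at hU hR hC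
  refine F.card_out_two ε hεs ?_ ?_
  · rintro c ⟨cc, hcc, ic⟩ ⟨h1, h2⟩
    change c * x = ε x * c at h1
    change c * t = ε t * c at h2
    rw [hεx] at h1
    rw [hεt] at h2
    rcases (hU cc hcc).2 with h | h
    · exact (ic.mul ix).ne (ix.mul ic) h h1
    · exact (ic.mul it).ne ((mk'_is het).mul ic) h h2
  · rintro u ⟨uc, huc, iu⟩ k hk hk0
    rcases hC uc huc k hk with (h0 | ⟨w, hw, hne⟩) | ⟨cc, hcc, hcs, hcx⟩
    · exact absurd (Nat.eq_of_beq_eq_true h0) hk0
    · exact Or.inl ⟨w, (ix.word is' it w).eq isOne (hR w hw),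
        ((ix.pow k).word is' (it.mul iu) w).ne isOne hne⟩
    · have ic := mk'_is ((hU cc hcc).1)
      refine Or.inr ⟨mk' ((hU cc hcc).1), (ic.mul is').eq (is'.mul ic) hcs, ?_⟩
      rcases hcx with ⟨h1, h2⟩ | ⟨h1, h2⟩
      · exact Or.inl ⟨(ic.mul ix).eq ((ix.pow k).mul ic) h1, (ic.mul it).eq ((it.mul iu).mul ic) h2⟩
      · refine Or.inr ⟨?_, ?_⟩
        · show _ * ε x = _
          rw [hεx]; exact (ic.mul ix).eq ((ix.pow k).mul ic) h1
        · show _ * ε t = _
          rw [hεt]; exact (ic.mul (mk'_is het)).eq ((it.mul iu).mul ic) h2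

end Cfsg.Agent.Lib.OutTrivial.J2Out
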