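import Cfsg.Agent.Lib.OutTrivial.Triple

/-!
# Outer automorphism groups of order two from a triple with explicit alternatives

`G = ⟨x, s, t⟩` as for a rigid triple, but the given automorphism may move `t` inside `t C(s)`.
-/

set_option autoImplicit false

namespace Cfsg.Agent.Lib.OutTrivial

universe u

variable {G : Type u} [Group G]

/-- The generators and their centralisers. -/
structure Frame (G : Type u) [Group G] where
  x : G
  s : G
  t : G
  p : ℕ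
  r : ℕ
  e : ℕ
  U : Set G
  prime : p.Prime
  gen : Subgroup.closure ({x, s, t} : Set G) = ⊤
  order_x : orderOf x = p
  sq : ¬ p ^ 2 ∣ Nat.card G
  conj_x : s * x * s⁻¹ = x ^ r
  conj_s : t * s * t⁻¹ = s ^ e
  cent_x : ∀ g : G, g * x * g⁻¹ = x → ∃ i < p, g = x ^ i
  shift : ∀ i < p, ∃ m : ℕ, s * x ^ i = x ^ m * s * (x ^ m)⁻¹
  cent_s : ∀ g : G, g * s * g⁻¹ = s → g ∈ U

namespace Frame

variable (T : Frame G) [Finite G]

theorem exists_normal_form (φ : MulAut G) :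
    ∃ g : G, ∃ k < T.p, k ≠ 0 ∧ ∃ u ∈ T.U, φ T.x = g * T.x ^ k * g⁻¹ ∧ φ T.s = g * T.s * g⁻¹ ∧
      φ T.t = g * (T.t * u) * g⁻¹ := by
  have : Fact T.p.Prime := ⟨T.prime⟩
  have hx1 : T.x ≠ 1 := fun h => T.prime.one_lt.ne' (by rw [← T.order_x, h, orderOf_one])
  have hpowlt : ∀ m : ℕ, T.x ^ (m % T.p) = T.x ^ m := fun m => by
    rw [← T.order_x]; exact pow_mod_orderOf _ _
  have hidx : ¬ T.p ∣ (Subgroup.zpowers T.x).index := fun h => T.sq (by
    rw [← (Subgroup.zpowers T.x).card_mul_index, Nat.card_zpowers, T.order_x, pow_two]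
    exact Nat.mul_dvd_mul_left T.p h)
  have hoφ : orderOf (φ T.x) = T.p := by
    rw [← T.order_x]; exact orderOf_injective φ.toMonoidHom φ.injective T.x
  obtain ⟨g, hg⟩ := exists_conj_mem _ hidx hoφ
  obtain ⟨k, hk⟩ := (Submonoid.mem_powers_iff _ _).1 (mem_powers_iff_mem_zpowers.2 hg)
  have hk0 : k % T.p ≠ 0 := by
    intro h0
    rw [← hpowlt, h0, pow_zero] at hk
    have : φ T.x = 1 := by
      calc φ T.x = g * (g⁻¹ * φ T.x * g) * g⁻¹ := by group
        _ = 1 := by rw [← hk]; group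
    exact hx1 (φ.injective (this.trans (map_one φ).symm))
  set ψ : MulAut G := (MulAut.conj g)⁻¹ * φ with hψ
  have hψv : ∀ y, ψ y = g⁻¹ * φ y * g := fun y => by
    show (MulAut.conj g).symm (φ y) = _
    rw [MulAut.conj_symm_apply]
  have hψx : ψ T.x = T.x ^ k := by rw [hψv, hk]
  obtain ⟨k', hk'⟩ : ∃ k' : ℕ, T.x = (T.x ^ k) ^ k' := by
    have hcop : Nat.Coprime k T.p := by
      rw [Nat.coprime_comm, T.prime.coprime_iff_not_dvd]
      exact fun h => hk0 (Nat.mod_eq_zero_of_dvd h)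
    obtain ⟨m, hm⟩ := exists_pow_eq_self_of_coprime (x := T.x) (by rwa [T.order_x])
    exact ⟨m, hm.symm⟩
  obtain ⟨m, hm⟩ : ∃ m : ℕ, ψ T.s = T.x ^ m * T.s * (T.x ^ m)⁻¹ := by
    have h1 : ψ T.s * T.x ^ k * (ψ T.s)⁻¹ = T.s * T.x ^ k * T.s⁻¹ := by
      have ha : ψ T.s * T.x ^ k * (ψ T.s)⁻¹ = (T.x ^ k) ^ T.r := by
        rw [← hψx, ← map_inv, ← map_mul, ← map_mul, T.conj_x, map_pow]
      have hb : T.s * T.x ^ k * T.s⁻¹ = (T.x ^ T.r) ^ k := by rw [← conj_pow, T.conj_x]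
      rw [ha, hb, ← pow_mul, ← pow_mul, mul_comm]
    have h2 : (T.s⁻¹ * ψ T.s) * T.x ^ k * (T.s⁻¹ * ψ T.s)⁻¹ = T.x ^ k := by
      calc _ = T.s⁻¹ * (ψ T.s * T.x ^ k * (ψ T.s)⁻¹) * T.s := by group
        _ = _ := by rw [h1]; group
    have h3 : (T.s⁻¹ * ψ T.s) * T.x * (T.s⁻¹ * ψ T.s)⁻¹ = T.x := by
      conv_lhs => rw [hk']
      rw [← conj_pow, h2, ← hk']
    obtain ⟨i, hi, hi'⟩ := T.cent_x _ h3
    obtain ⟨m, hm⟩ := T.shift i hi
    exact ⟨m, by rw [← hm, ← hi', mul_inv_cancel_left]⟩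
  have hφx : φ T.x = (g * T.x ^ m) * T.x ^ k * (g * T.x ^ m)⁻¹ := by
    calc φ T.x = g * ψ T.x * g⁻¹ := by rw [hψv]; group
      _ = g * T.x ^ k * g⁻¹ := by rw [hψx]
      _ = g * (T.x ^ m * T.x ^ k * (T.x ^ m)⁻¹) * g⁻¹ := by
        rw [← pow_add, add_comm, pow_add, mul_inv_cancel_right]
      _ = _ := by group
  have hφs : φ T.s = (g * T.x ^ m) * T.s * (g * T.x ^ m)⁻¹ := by
    calc φ T.s = g * ψ T.s * g⁻¹ := by rw [hψv]; group
      _ = _ := by rw [hm]; group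
  generalize g * T.x ^ m = h at hφx hφs
  clear hψ hψv hψx hm hg
  set χ : MulAut G := (MulAut.conj h)⁻¹ * φ with hχ
  have hχv : ∀ y, χ y = h⁻¹ * φ y * h := fun y => by
    show (MulAut.conj h).symm (φ y) = _
    rw [MulAut.conj_symm_apply]
  have hχs : χ T.s = T.s := by rw [hχv, hφs]; group
  have hu : T.t⁻¹ * χ T.t ∈ T.U := by
    refine T.cent_s _ ?_
    have h1 : χ T.t * T.s * (χ T.t)⁻¹ = T.t * T.s * T.t⁻¹ := by
      conv_lhs => rw [← hχs, ← map_inv, ← map_mul, ← map_mul, T.conj_s, map_pow, hχs, ← T.conj_s]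
    calc _ = T.t⁻¹ * (χ T.t * T.s * (χ T.t)⁻¹) * T.t := by group
      _ = T.s := by rw [h1]; group
  refine ⟨h, k % T.p, Nat.mod_lt _ T.prime.pos, hk0, _, hu, by rw [hφx, hpowlt], hφs, ?_⟩
  rw [hχv]; group

/-- Out has order two if every normal form is refuted or is realised by `1` or by `ε`. -/
theorem card_out_two (ε : MulAut G) (hεs : ε T.s = T.s)
    (hε : ∀ c ∈ T.U, ¬ (c * T.x = ε T.x * c ∧ c * T.t = ε T.t * c))
    (hcases : ∀ u ∈ T.U, ∀ k < T.p, k ≠ 0 →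
      (∃ w : List (Fin 3), val3 T.x T.s T.t w = 1 ∧ val3 (T.x ^ k) T.s (T.t * u) w ≠ 1) ∨
      ∃ c : G, c * T.s = T.s * c ∧
        ((c * T.x = T.x ^ k * c ∧ c * T.t = T.t * u * c) ∨
          (c * ε T.x = T.x ^ k * c ∧ c * ε T.t = T.t * u * c))) :
    Nat.card (Out G) = 2 := by
  have hne : ε ∉ Inn G := by
    rintro ⟨c, hc⟩
    have hv : ∀ y, c * y = ε y * c := fun y => by
      rw [← hc]; show c * y = c * y * c⁻¹ * c; rw [inv_mul_cancel_right]
    refine hε c (T.cent_s c (mul_inv_eq_iff_eq_mul.2 ?_)) ⟨hv _, hv _⟩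
    rw [hv, hεs]
  have hne' : (QuotientGroup.mk ε : Out G) ≠ 1 := fun h => hne ((QuotientGroup.eq_one_iff _).mp h)
  rw [Nat.card_eq_two_iff]
  refine ⟨QuotientGroup.mk ε, 1, hne', Set.eq_univ_of_forall fun a => ?_⟩
  obtain ⟨φ, rfl⟩ := QuotientGroup.mk_surjective a
  obtain ⟨g, k, hkp, hk0, u, hu, hx, hs, ht⟩ := T.exists_normal_form φ
  rcases hcases u hu k hkp hk0 with ⟨w, hw, hne2⟩ | ⟨c, hcs, hc⟩
  · exfalso
    apply hne2
    have h1 := map_val3 φ.toMonoidHom T.x T.s T.t w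
    rw [hw, map_one] at h1
    simp only [MulEquiv.coe_toMonoidHom, hx, hs, ht] at h1
    have h2 := map_val3 (MulAut.conj g).toMonoidHom (T.x ^ k) T.s (T.t * u) w
    simp only [MulEquiv.coe_toMonoidHom, MulAut.conj_apply] at h2
    rw [← h1] at h2
    exact conj_eq_one_iff.mp h2
  have key : ∀ η : MulAut G, η T.s = T.s → c * η T.x = T.x ^ k * c → c * η T.t = T.t * u * c →
      φ = MulAut.conj (g * c) * η := by
    intro η e1 e2 e3
    have heq : φ.toMonoidHom = (MulAut.conj (g * c) * η : MulAut G).toMonoidHom := by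
      refine MonoidHom.eq_of_eqOn_dense T.gen ?_
      rintro y (rfl | rfl | rfl) <;>
        simp only [MulEquiv.coe_toMonoidHom, MulAut.mul_apply, MulAut.conj_apply, mul_inv_rev]
      · rw [hx, ← mul_assoc, mul_assoc g c, e2]; group
      · rw [hs, e1, ← mul_assoc, mul_assoc g c, hcs]; group
      · rw [ht, ← mul_assoc, mul_assoc g c, e3]; group
    exact MulEquiv.ext fun y => DFunLike.congr_fun heq y
  rcases hc with ⟨h1, h2⟩ | ⟨h1, h2⟩
  · exact Or.inr ((QuotientGroup.eq_one_iff _).mpr ⟨g * c, by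
      rw [key 1 rfl h1 h2, mul_one]⟩)
  · left
    have h : (QuotientGroup.mk (φ * ε⁻¹) : Out G) = 1 := (QuotientGroup.eq_one_iff _).mpr ⟨g * c, by
      rw [key ε hεs h1 h2, mul_inv_cancel_right]⟩
    exact mul_inv_eq_one.mp h

end Frame

end Cfsg.Agent.Lib.OutTrivial
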